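import Groth.Agent.Lib.Helper8.GenTop.Sheaf
import Groth.Agent.Lib.Helper1.Subtr1
import Groth.Agent.Lib.Helper1.VSheaf
import Groth.Agent.S7473
import Groth.Agent.Lib.Helper5.NApprox.LimAff

universe w u
open CategoryTheory CategoryTheory.Limits AlgebraicGeometry HTop

namespace Groth.Agent.H5.Vh

open Groth.Agent.Lib.Helper1.Subtr1

/-- affine morphisms with the valuative lifting property. -/
def CV : MorphismProperty Scheme.{u} := fun _ _ f => IsAffineHom f ∧ ValLift f

instance : (CV.{u}).IsStableUnderBaseChange where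
  of_isPullback sq hg := ⟨MorphismProperty.of_isPullback sq hg.1, valLift_of_isPullback sq.flip hg.2⟩

variable {S : Scheme.{u}} {F : (Over S)ᵒᵖ ⥤ Type w}

/-- Zariski coverings are h coverings. -/
theorem mem_hPrecoverage_of_mem_zariski {Y : Scheme.{u}} (R : Presieve Y)
    (hR : R ∈ Scheme.zariskiPrecoverage Y) : R ∈ hPrecoverage Y := by
  obtain ⟨E₀, rfl⟩ := R.exists_eq_preZeroHypercover
  rw [presieve₀_mem_hPrecoverage_iff]
  refine ⟨?_, Groth.Agent.S7473.result ⟨E₀, Scheme.zariskiPrecoverage_le_fpqcPrecoverage _ hR⟩⟩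
  intro i
  have : IsOpenImmersion (E₀.f i) := ((Scheme.ofArrows_mem_precoverage_iff _).mp hR).2 i
  infer_instance

/-- an h sheaf over `S` is a Zariski sheaf over `S`. -/
theorem isSheaf_zariski_of_isHSheafOver (h1 : IsHSheafOver S F) :
    Presieve.IsSheaf (Scheme.zariskiTopology.over S) F := by
  change Presieve.IsSheaf (Scheme.zariskiPrecoverage.toGrothendieck.over S) F
  rw [over_toGrothendieck_eq_toGrothendieck_comap_forget,
    Precoverage.isSheaf_toGrothendieck_iff_of_isStableUnderBaseChange]
  intro X R hR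
  rw [Precoverage.mem_comap_iff] at hR
  exact h1 R (mem_hPrecoverage_of_mem_zariski (Y := X.left) _ hR)

end Groth.Agent.H5.Vh
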