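import Groth.Agent.Lib.Helper5.Vh.VhA

universe w u
open CategoryTheory CategoryTheory.Limits AlgebraicGeometry HTop

namespace Groth.Agent.H5.Vh

open Groth.Agent.H8.GenTop

variable {S : Scheme.{u}} {F : (Over S)ᵒᵖ ⥤ Type w}

/-- an open subscheme of an `S`-scheme, as an `S`-scheme. -/
abbrev opO (X : Over S) (U : X.left.Opens) : Over S := Over.mk (U.ι ≫ X.hom)

/-- the inclusion of an open subscheme of an `S`-scheme. -/
abbrev opι (X : Over S) (U : X.left.Opens) : opO X U ⟶ X := Over.homMk U.ι rfl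

/-- the pre-1-hypercover of an `S`-scheme by its affine opens (with all affine opens of the
pairwise intersections). -/
@[reducible] noncomputable def affPre (X : Over S) : PreOneHypercover.{u} X where
  I₀ := X.left.affineOpens
  X i := opO X i.1
  f i := opι X i.1
  I₁ i j := {V : X.left.affineOpens // V.1 ≤ i.1 ⊓ j.1}
  Y _ _ k := opO X k.1.1
  p₁ i _ k := Over.homMk (X.left.homOfLE (k.2.trans inf_le_left)) (by simp)
  p₂ _ j k := Over.homMk (X.left.homOfLE (k.2.trans inf_le_right)) (by simp)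
  w _ _ k := by ext; simp

theorem affPre_p₁_f (X : Over S) {i j : (affPre X).I₀} (k : (affPre X).I₁ i j) :
    (affPre X).p₁ k ≫ (affPre X).f i = opι X k.1.1 := by
  ext
  simp [affPre]

/-- the sieve generated by a jointly surjective family of open subschemes is Zariski covering. -/
theorem zar_mem_opens {W : Over S} (R : Sieve W) {ι : Type u} (O : ι → W.left.Opens)
    (hcov : ∀ x : W.left, ∃ i, x ∈ O i) (hR : ∀ i, R.arrows (opι W (O i))) :
    R ∈ (Scheme.zariskiTopology.over S) W := by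
  refine zar_mem R (fun i => opO W (O i)) (fun i => opι W (O i)) (fun i => ?_) (fun x => ?_) hR
  · change IsOpenImmersion (O i).ι
    infer_instance
  · obtain ⟨i, hi⟩ := hcov x
    refine ⟨i, ?_⟩
    change x ∈ Set.range (O i).ι
    rw [Scheme.Opens.range_ι]
    exact hi

/-- the affine Zariski 1-hypercover of an `S`-scheme. -/
@[reducible] noncomputable def affOne (X : Over S) : (Scheme.zariskiTopology.over S).OneHypercover X where
  toPreOneHypercover := affPre X
  mem₀ := by
    refine zar_mem_opens _ (fun i : X.left.affineOpens => i.1) (fun x => ?_) (fun i => ?_)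
    · obtain ⟨U, hU, hxU, -⟩ := exists_isAffineOpen_mem_and_subset (x := x) (U := ⊤) trivial
      exact ⟨⟨U, hU⟩, hxU⟩
    · exact Sieve.le_generate _ _ _ (Presieve.ofArrows.mk (ι := (affPre X).I₀) i)
  mem₁ i j W p₁ p₂ h := by
    have hl : p₁.left ≫ i.1.ι = p₂.left ≫ j.1.ι := congrArg CommaMorphism.left h
    refine zar_mem_opens _
      (fun k : {V : X.left.affineOpens // V.1 ≤ i.1 ⊓ j.1} => (p₁.left ≫ i.1.ι) ⁻¹ᵁ k.1.1)
      (fun x => ?_) (fun k => ?_)
    · have hxi : (p₁.left ≫ i.1.ι) x ∈ i.1 ⊓ j.1 := by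
        constructor
        · exact (p₁.left x).2
        · rw [hl]
          exact (p₂.left x).2
      obtain ⟨V, hV, hxV, hVle⟩ := exists_isAffineOpen_mem_and_subset hxi
      exact ⟨⟨⟨V, hV⟩, hVle⟩, hxV⟩
    · have hrange : Set.range (((p₁.left ≫ i.1.ι) ⁻¹ᵁ k.1.1).ι ≫ p₁.left ≫ i.1.ι) ⊆
          Set.range k.1.1.ι := by
        rintro _ ⟨x, rfl⟩
        rw [Scheme.Opens.range_ι]
        exact x.2
      let l : (((p₁.left ≫ i.1.ι) ⁻¹ᵁ k.1.1 : W.left.Opens) : Scheme.{u}) ⟶ (k.1.1 : Scheme.{u}) :=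
        IsOpenImmersion.lift k.1.1.ι (((p₁.left ≫ i.1.ι) ⁻¹ᵁ k.1.1).ι ≫ p₁.left ≫ i.1.ι) hrange
      have hl' : l ≫ k.1.1.ι = ((p₁.left ≫ i.1.ι) ⁻¹ᵁ k.1.1).ι ≫ p₁.left ≫ i.1.ι :=
        IsOpenImmersion.lift_fac _ _ _
      refine ⟨k, Over.homMk l ?_, ?_, ?_⟩
      · change l ≫ k.1.1.ι ≫ X.hom = ((p₁.left ≫ i.1.ι) ⁻¹ᵁ k.1.1).ι ≫ W.hom
        have hw : p₁.left ≫ i.1.ι ≫ X.hom = W.hom := Over.w p₁
        rw [reassoc_of% hl', hw]
      · ext
        change ((p₁.left ≫ i.1.ι) ⁻¹ᵁ k.1.1).ι ≫ p₁.left =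
          l ≫ X.left.homOfLE (k.2.trans inf_le_left)
        rw [← cancel_mono i.1.ι, Category.assoc, Category.assoc, Scheme.homOfLE_ι, hl']
      · ext
        change ((p₁.left ≫ i.1.ι) ⁻¹ᵁ k.1.1).ι ≫ p₂.left =
          l ≫ X.left.homOfLE (k.2.trans inf_le_right)
        rw [← cancel_mono j.1.ι, Category.assoc, Category.assoc, Scheme.homOfLE_ι, hl', hl]

/-- **the sheaf condition for a presieve is local for the affine opens of the target.** -/
theorem isSheafFor_of_affineOpens (hzar : Presieve.IsSheaf (Scheme.zariskiTopology.over S) F)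
    {X : Over S} (R : Presieve X)
    (H : ∀ U : X.left.affineOpens,
      Presieve.IsSheafFor F ((Sieve.generate R).pullback (opι X U.1)).arrows) :
    Presieve.IsSheafFor F R := by
  refine (affOne X).isSheafFor_of_pullback hzar (fun i => ?_) (fun i j k => ?_)
  · exact H i
  · have e : (affPre X).p₁ k ≫ (affPre X).f i = opι X k.1.1 := affPre_p₁_f X k
    change Presieve.IsSeparatedFor F
      ((Sieve.generate R).pullback ((affPre X).p₁ k ≫ (affPre X).f i)).arrows
    rw [e]
    exact (H k.1).isSeparatedFor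

end Groth.Agent.H5.Vh
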