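import Groth.Agent.Lib.Helper5.Vh.VhB

universe w u v₁ u₁ v₂ u₂
open CategoryTheory CategoryTheory.Limits

namespace Groth.Agent.H5.Vh

section General

variable {C : Type u₁} [Category.{v₁} C] [HasBinaryProducts C]

/-- the self-product functor `Y ↦ Y ⨯ Y`. -/
noncomputable def sq : C ⥤ C where
  obj Y := Y ⨯ Y
  map a := prod.map a a

theorem sq_obj (Y : C) : (sq (C := C)).obj Y = (Y ⨯ Y) := rfl

theorem sq_map {Y Y' : C} (a : Y ⟶ Y') : (sq (C := C)).map a = prod.map a a := rfl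

/-- first projection of the self-product. -/
noncomputable def sqFst (Y : C) : (sq (C := C)).obj Y ⟶ Y := prod.fst

/-- second projection of the self-product. -/
noncomputable def sqSnd (Y : C) : (sq (C := C)).obj Y ⟶ Y := prod.snd

@[reassoc]
theorem sq_map_fst {Y Y' : C} (a : Y ⟶ Y') : (sq (C := C)).map a ≫ sqFst Y' = sqFst Y ≫ a :=
  prod.map_fst a a

@[reassoc]
theorem sq_map_snd {Y Y' : C} (a : Y ⟶ Y') : (sq (C := C)).map a ≫ sqSnd Y' = sqSnd Y ≫ a :=
  prod.map_snd a a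

/-- pairing into the self-product. -/
noncomputable def sqLift {W Y : C} (a₁ a₂ : W ⟶ Y) : W ⟶ (sq (C := C)).obj Y := prod.lift a₁ a₂

@[reassoc (attr := simp)]
theorem sqLift_fst {W Y : C} (a₁ a₂ : W ⟶ Y) : sqLift a₁ a₂ ≫ sqFst Y = a₁ := prod.lift_fst _ _

@[reassoc (attr := simp)]
theorem sqLift_snd {W Y : C} (a₁ a₂ : W ⟶ Y) : sqLift a₁ a₂ ≫ sqSnd Y = a₂ := prod.lift_snd _ _

variable {J : Type u₂} [Category.{v₂} J] {D : J ⥤ C}

/-- the self-product functor preserves limits (by hand). -/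
theorem nonempty_isLimit_sq_mapCone {c : Cone D} (hc : IsLimit c) :
    Nonempty (IsLimit ((sq (C := C)).mapCone c)) := by
  refine ⟨IsLimit.ofExistsUnique fun s => ?_⟩
  have n₁ : ∀ (j j' : J) (a : j ⟶ j'),
      s.π.app j' ≫ (prod.fst : D.obj j' ⨯ D.obj j' ⟶ _) =
        (s.π.app j ≫ (prod.fst : D.obj j ⨯ D.obj j ⟶ _)) ≫ D.map a := by
    intro j j' a
    have := s.π.naturality a
    dsimp at this
    rw [Category.id_comp, sq_map] at this
    rw [this]
    erw [Category.assoc, Category.assoc, prod.map_fst]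
    rfl
  have n₂ : ∀ (j j' : J) (a : j ⟶ j'),
      s.π.app j' ≫ (prod.snd : D.obj j' ⨯ D.obj j' ⟶ _) =
        (s.π.app j ≫ (prod.snd : D.obj j ⨯ D.obj j ⟶ _)) ≫ D.map a := by
    intro j j' a
    have := s.π.naturality a
    dsimp at this
    rw [Category.id_comp, sq_map] at this
    rw [this]
    erw [Category.assoc, Category.assoc, prod.map_snd]
    rfl
  let s₁ : Cone D := ⟨s.pt, ⟨fun j => s.π.app j ≫ (prod.fst : D.obj j ⨯ D.obj j ⟶ _),
    fun j j' a => by dsimp; rw [Category.id_comp]; exact n₁ j j' a⟩⟩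
  let s₂ : Cone D := ⟨s.pt, ⟨fun j => s.π.app j ≫ (prod.snd : D.obj j ⨯ D.obj j ⟶ _),
    fun j j' a => by dsimp; rw [Category.id_comp]; exact n₂ j j' a⟩⟩
  have hfac : ∀ j, (prod.lift (hc.lift s₁) (hc.lift s₂) : s.pt ⟶ c.pt ⨯ c.pt) ≫
      prod.map (c.π.app j) (c.π.app j) = s.π.app j := by
    intro j
    rw [prod.lift_map]
    apply Limits.prod.hom_ext
    · rw [prod.lift_fst]; exact hc.fac s₁ j
    · rw [prod.lift_snd]; exact hc.fac s₂ j
  have key : ∀ m' : s.pt ⟶ c.pt ⨯ c.pt,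
      (∀ j, m' ≫ prod.map (c.π.app j) (c.π.app j) = s.π.app j) →
        m' = prod.lift (hc.lift s₁) (hc.lift s₂) := by
    intro m' hm'
    apply Limits.prod.hom_ext
    · rw [prod.lift_fst]
      refine hc.uniq s₁ _ fun j => ?_
      have e := congrArg (· ≫ (prod.fst : D.obj j ⨯ D.obj j ⟶ _)) (hm' j)
      simp only [Category.assoc, prod.map_fst] at e
      rw [Category.assoc]
      exact e
    · rw [prod.lift_snd]
      refine hc.uniq s₂ _ fun j => ?_
      have e := congrArg (· ≫ (prod.snd : D.obj j ⨯ D.obj j ⟶ _)) (hm' j)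
      simp only [Category.assoc, prod.map_snd] at e
      rw [Category.assoc]
      exact e
  exact ⟨(prod.lift (hc.lift s₁) (hc.lift s₂) : s.pt ⟶ c.pt ⨯ c.pt), fun j => hfac j,
    fun m hm => key m hm⟩

end General

end Groth.Agent.H5.Vh
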