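import Groth.Agent.Lib.Helper5.Vh.VhC

universe w u
open CategoryTheory CategoryTheory.Limits AlgebraicGeometry HTop Opposite

namespace Groth.Agent.H5.Vh

open Groth.Agent.Lib.Helper1.Subtr1

variable {S : Scheme.{u}} {F : (Over S)ᵒᵖ ⥤ Type w}

/-- the structure morphism to `X` of an `X.left`-scheme seen as an `S`-scheme. -/
def toX (X : Over S) (Y : Over X.left) : (Over.map X.hom).obj Y ⟶ X :=
  Over.homMk Y.hom (by simp)

@[simp]
theorem toX_left (X : Over S) (Y : Over X.left) : (toX X Y).left = Y.hom := rfl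

@[reassoc]
theorem map_toX (X : Over S) {Y Y' : Over X.left} (a : Y ⟶ Y') :
    (Over.map X.hom).map a ≫ toX X Y' = toX X Y := by
  ext
  simp

/-- two `S`-morphisms into `Y` agreeing in `X` pair up to a morphism into `Y ×_X Y`. -/
theorem exists_pair (X : Over S) (Y : Over X.left) {W : Over S}
    (g₁ g₂ : W ⟶ (Over.map X.hom).obj Y) (h : g₁ ≫ toX X Y = g₂ ≫ toX X Y) :
    ∃ l : W ⟶ (Over.map X.hom).obj (sq.obj Y),
      l ≫ (Over.map X.hom).map (sqFst Y) = g₁ ∧ l ≫ (Over.map X.hom).map (sqSnd Y) = g₂ := by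
  have hl : g₁.left ≫ Y.hom = g₂.left ≫ Y.hom := congrArg CommaMorphism.left h
  let W' : Over X.left := Over.mk (g₁.left ≫ Y.hom)
  let a₁ : W' ⟶ Y := Over.homMk g₁.left rfl
  let a₂ : W' ⟶ Y := Over.homMk g₂.left hl.symm
  let l' : W' ⟶ sq.obj Y := sqLift a₁ a₂
  have hw : l'.left ≫ (sq.obj Y).hom = g₁.left ≫ Y.hom := Over.w l'
  have hg : g₁.left ≫ Y.hom ≫ X.hom = W.hom := Over.w g₁
  refine ⟨Over.homMk l'.left ?_, ?_, ?_⟩
  · change l'.left ≫ (sq.obj Y).hom ≫ X.hom = W.hom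
    rw [reassoc_of% hw, hg]
  · ext
    change l'.left ≫ (sqFst Y).left = g₁.left
    rw [← Over.comp_left, sqLift_fst]
    rfl
  · ext
    change l'.left ≫ (sqSnd Y).left = g₂.left
    rw [← Over.comp_left, sqLift_snd]
    rfl

end Groth.Agent.H5.Vh
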