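import Groth.Agent.Lib.Helper5.Vh.VhD

universe w u
open CategoryTheory CategoryTheory.Limits AlgebraicGeometry HTop Opposite

namespace Groth.Agent.H5.Vh

open Groth.Agent.Lib.Helper1.Subtr1

variable {S : Scheme.{u}} {F : (Over S)ᵒᵖ ⥤ Type w}

/-- a limit cone in `Over X.left` over a cofiltered index, seen in `Over S` and then in schemes,
is still a limit cone. -/
theorem nonempty_isLimit_forget_map (X : Over S) {I : Type u} [SmallCategory I] [IsCofiltered I]
    {D : I ⥤ Over X.left} {c : Cone D} (hc : IsLimit c) :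
    Nonempty (IsLimit ((Over.forget S).mapCone ((Over.map X.hom).mapCone c))) := by
  haveI : IsConnected I := IsCofiltered.isConnected _
  have h0 : IsLimit ((Over.forget X.left).mapCone c) := isLimitOfPreserves (Over.forget X.left) hc
  exact ⟨h0⟩

/-- a quasi-compact morphism locally of finite presentation with the valuative lifting property
is an h covering. -/
theorem singleton_mem_hPrecoverage {A B : Scheme.{u}} (g : A ⟶ B) [QuasiCompact g]
    [LocallyOfFinitePresentation g] (hg : ValLift g) :
    Presieve.singleton g ∈ hPrecoverage B := by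
  rw [← PreZeroHypercover.presieve₀_singleton.{_, _, 0} g, presieve₀_mem_hPrecoverage_iff]
  refine ⟨?_, Groth.Agent.Lib.Helper1.ValLift.isVCover_singleton_of_hasValLift g ?_⟩
  · intro _
    change LocallyOfFinitePresentation g
    infer_instance
  intro V _ _ k
  obtain ⟨W, hd, hv, φ, hφ, g', hg'⟩ := hg V k
  exact ⟨W, hd, hv, φ, hφ, PUnit.unit, g', hg'⟩

theorem map_op_comp_apply {C : Type*} [Category C] (G : Cᵒᵖ ⥤ Type w) {A B E : C} (a : A ⟶ B)
    (b : B ⟶ E) (x : G.obj (op E)) : G.map a.op (G.map b.op x) = G.map (a ≫ b).op x := by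
  rw [op_comp, FunctorToTypes.map_comp_apply]

/-- **the limit argument**: if `X' = lim X_i` over an affine `X` with all `X_i → X` affine, finitely
presented, and `X' → X` has the valuative lifting property, then an h sheaf which is limit
preserving satisfies the sheaf condition for `X' → X`. -/
theorem isSheafFor_toX_of_isLimit (h1 : IsHSheafOver S F)
    (h2 : ∀ (I : Type u) [SmallCategory I] [IsCofiltered I] (D : I ⥤ Over S),
      (∀ i, IsAffine (D.obj i).left) → ∀ (c : Cone D), IsLimit ((Over.forget S).mapCone c) →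
        Nonempty (IsColimit (F.mapCocone c.op)))
    (X : Over S) [IsAffine X.left] {I : Type u} [SmallCategory I] [IsCofiltered I]
    (D : I ⥤ Over X.left) (c : Cone D) (hc : IsLimit c)
    (hD : ∀ i, IsAffineHom (D.obj i).hom ∧ LocallyOfFinitePresentation (D.obj i).hom)
    (hv : ValLift c.pt.hom) :
    Presieve.IsSheafFor F (Presieve.singleton (toX X c.pt)) := by
  have haff : ∀ i, IsAffine (D.obj i).left := fun i => by
    haveI := (hD i).1
    exact isAffine_of_isAffineHom (D.obj i).hom
  have haff2 : ∀ i, IsAffine ((sq.obj (D.obj i)).left) := fun i => by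
    haveI := haff i
    exact .of_isIso (Over.prodLeftIsoPullback (D.obj i) (D.obj i)).hom
  obtain ⟨hlim1⟩ := nonempty_isLimit_forget_map X hc
  obtain ⟨hc2⟩ := nonempty_isLimit_sq_mapCone hc
  obtain ⟨hlim2⟩ := nonempty_isLimit_forget_map X hc2
  obtain ⟨hcol1⟩ := h2 I (D ⋙ Over.map X.hom) haff ((Over.map X.hom).mapCone c) hlim1
  obtain ⟨hcol2⟩ := h2 I ((D ⋙ sq) ⋙ Over.map X.hom) haff2
    ((Over.map X.hom).mapCone (sq.mapCone c)) hlim2
  -- the stages are h coverings
  have hst : ∀ i, Presieve.IsSheafFor F (Presieve.singleton (toX X (D.obj i))) := by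
    intro i
    apply h1
    rw [Presieve.map_singleton]
    haveI := (hD i).1
    haveI := (hD i).2
    have hvi : ValLift (D.obj i).hom := by
      have : c.pt.hom = (c.π.app i).left ≫ (D.obj i).hom := (Over.w (c.π.app i)).symm
      rw [this] at hv
      exact hv.of_comp
    exact singleton_mem_hPrecoverage (D.obj i).hom hvi
  rw [Presieve.isSheafFor_singleton]
  intro t ht
  obtain ⟨⟨i⟩, ti, hti⟩ := Types.jointly_surjective_of_isColimit hcol1 t
  have hti' : F.map ((Over.map X.hom).map (c.π.app i)).op ti = t := hti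
  -- compare the two pullbacks of `ti` in the second colimit
  have hu : F.map ((Over.map X.hom).map (sq.map (c.π.app i))).op
        (F.map ((Over.map X.hom).map (sqFst (D.obj i))).op ti) =
      F.map ((Over.map X.hom).map (sq.map (c.π.app i))).op
        (F.map ((Over.map X.hom).map (sqSnd (D.obj i))).op ti) := by
    rw [map_op_comp_apply, map_op_comp_apply, ← Functor.map_comp, ← Functor.map_comp,
      sq_map_fst, sq_map_snd, Functor.map_comp, Functor.map_comp, ← map_op_comp_apply,
      ← map_op_comp_apply]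
    change F.map ((Over.map X.hom).map (sqFst c.pt)).op
        (F.map ((Over.map X.hom).map (c.π.app i)).op ti) =
      F.map ((Over.map X.hom).map (sqSnd c.pt)).op
        (F.map ((Over.map X.hom).map (c.π.app i)).op ti)
    rw [hti']
    exact ht _ _ (by rw [map_toX, map_toX])
  obtain ⟨⟨j⟩, b, hb⟩ := (Types.FilteredColimit.isColimit_eq_iff' hcol2 (i := op i)
    (F.map ((Over.map X.hom).map (sqFst (D.obj i))).op ti)
    (F.map ((Over.map X.hom).map (sqSnd (D.obj i))).op ti)).mp hu
  have hb' : F.map ((Over.map X.hom).map (sq.map (D.map b.unop))).op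
        (F.map ((Over.map X.hom).map (sqFst (D.obj i))).op ti) =
      F.map ((Over.map X.hom).map (sq.map (D.map b.unop))).op
        (F.map ((Over.map X.hom).map (sqSnd (D.obj i))).op ti) := hb
  set tj := F.map ((Over.map X.hom).map (D.map b.unop)).op ti with htj
  have hj : F.map ((Over.map X.hom).map (sqFst (D.obj j))).op tj =
      F.map ((Over.map X.hom).map (sqSnd (D.obj j))).op tj := by
    rw [map_op_comp_apply, map_op_comp_apply, ← Functor.map_comp, ← Functor.map_comp,
      sq_map_fst, sq_map_snd, Functor.map_comp, Functor.map_comp, ← map_op_comp_apply,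
      ← map_op_comp_apply] at hb'
    exact hb'
  have hcompat : ∀ {Z : Over S} (p₁ p₂ : Z ⟶ (Over.map X.hom).obj (D.obj j)),
      p₁ ≫ toX X (D.obj j) = p₂ ≫ toX X (D.obj j) → F.map p₁.op tj = F.map p₂.op tj := by
    intro Z p₁ p₂ hp
    obtain ⟨l, hl1, hl2⟩ := exists_pair X (D.obj j) p₁ p₂ hp
    rw [← hl1, ← hl2, ← map_op_comp_apply, ← map_op_comp_apply, hj]
  obtain ⟨y, hy, -⟩ := (Presieve.isSheafFor_singleton.mp (hst j)) tj hcompat
  have ej : (Over.map X.hom).map (c.π.app j) ≫ toX X (D.obj j) = toX X c.pt :=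
    map_toX X (c.π.app j)
  have hyt : F.map (toX X c.pt).op y = t := by
    rw [← ej, ← map_op_comp_apply, hy, htj, map_op_comp_apply,
      ← Functor.map_comp, c.w b.unop, hti']
  refine ⟨y, hyt, ?_⟩
  intro y' hy'
  have hz : F.map ((Over.map X.hom).map (c.π.app j)).op (F.map (toX X (D.obj j)).op y') =
      F.map ((Over.map X.hom).map (c.π.app j)).op (F.map (toX X (D.obj j)).op y) := by
    rw [map_op_comp_apply, map_op_comp_apply, ej, hy', hyt]
  obtain ⟨⟨k⟩, b₂, hb₂⟩ := (Types.FilteredColimit.isColimit_eq_iff' hcol1 (i := op j)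
    (F.map (toX X (D.obj j)).op y') (F.map (toX X (D.obj j)).op y)).mp hz
  have hb₂' : F.map ((Over.map X.hom).map (D.map b₂.unop)).op (F.map (toX X (D.obj j)).op y') =
      F.map ((Over.map X.hom).map (D.map b₂.unop)).op (F.map (toX X (D.obj j)).op y) := hb₂
  rw [map_op_comp_apply, map_op_comp_apply, map_toX] at hb₂'
  exact (Presieve.isSeparatedFor_singleton.mp (hst k).isSeparatedFor) hb₂'

end Groth.Agent.H5.Vh
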