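import Groth.Agent.Lib.Helper5.Vh.VhE

universe w u
open CategoryTheory CategoryTheory.Limits AlgebraicGeometry HTop Opposite

namespace Groth.Agent.H5.Vh

open Groth.Agent.Lib.Helper1.Subtr1 Groth.Agent.H5.NApprox Groth.Agent.H8.GenTop

variable {S : Scheme.{u}} {F : (Over S)ᵒᵖ ⥤ Type w}

theorem exists_isVCover_of_mem {Y : Scheme.{u}} (R' : Presieve Y) (hR : R' ∈ vPrecoverage Y) :
    ∃ E : PreZeroHypercover.{u + 1} Y, IsVCover E ∧ R' = E.presieve₀ := by
  rw [vPrecoverage, PreZeroHypercoverFamily.mem_precoverage_iff] at hR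
  exact hR

section
variable (h1 : IsHSheafOver S F)
  (h2 : ∀ (I : Type u) [SmallCategory I] [IsCofiltered I] (D : I ⥤ Over S),
      (∀ i, IsAffine (D.obj i).left) → ∀ (c : Cone D), IsLimit ((Over.forget S).mapCone c) →
        Nonempty (IsColimit (F.mapCocone c.op)))

include h1 h2 in
/-- the sheaf condition for an affine morphism with the valuative lifting property and affine
target. -/
theorem isSheafFor_singleton_of_isAffine (X X' : Over S) [IsAffine X.left] (f : X' ⟶ X)
    (hf : CV f.left) : Presieve.IsSheafFor F (Presieve.singleton f) := by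
  haveI : IsAffineHom f.left := hf.1
  haveI : IsAffine X'.left := isAffine_of_isAffineHom f.left
  obtain ⟨I, _, _, D, c, hc, hprops, ⟨e⟩⟩ := (isAffineHom_iff_isLimit f.left).mp hf.1
  have hv : ValLift c.pt.hom := by
    intro V _ _ g
    obtain ⟨W, hd, hvr, φ, hφ, g', hg'⟩ := hf.2 V g
    refine ⟨W, hd, hvr, φ, hφ, g' ≫ e.inv.left, ?_⟩
    have : e.inv.left ≫ c.pt.hom = f.left := Over.w e.inv
    rw [Category.assoc, this, hg']
  have key := isSheafFor_toX_of_isLimit h1 h2 X D c hc hprops hv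
  have hw : e.hom.left ≫ f.left = c.pt.hom := Over.w e.hom
  let ê : (Over.map X.hom).obj c.pt ≅ X' :=
    Over.isoMk ((Over.forget _).mapIso e) (by
      change e.hom.left ≫ X'.hom = c.pt.hom ≫ X.hom
      rw [← hw, Category.assoc, Over.w f])
  have hê : ê.hom ≫ f = toX X c.pt := by
    ext
    exact hw
  exact (Presieve.isSheafFor_singleton_iff_of_iso _ _ ê hê).mp key

include h1 h2 in
/-- the sheaf condition for every affine morphism with the valuative lifting property. -/
theorem isSheafFor_singleton_of_CV (X X' : Over S) (f : X' ⟶ X) (hf : CV f.left) :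
    Presieve.IsSheafFor F (Presieve.singleton f) := by
  refine isSheafFor_of_affineOpens (isSheaf_zariski_of_isHSheafOver h1) _ (fun U => ?_)
  rw [← Sieve.pullbackArrows_comm, Presieve.pullback_singleton, ← Presieve.isSheafFor_iff_generate]
  haveI : IsAffine (opO X U.1).left := U.2
  apply isSheafFor_singleton_of_isAffine h1 h2
  have hpb := (IsPullback.of_hasPullback f (opι X U.1)).map (Over.forget S)
  exact CV.of_isPullback hpb hf

include h1 h2 in
/-- **S7293**: an h sheaf which is limit preserving is a V sheaf. -/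
theorem isVSheafOver_of_isHSheafOver : IsVSheafOver S F := by
  intro X R hR
  obtain ⟨E, hE, heq⟩ := exists_isVCover_of_mem (Y := X.left) _ hR
  rw [Presieve.isSheafFor_iff_generate]
  refine isSheafFor_of (C := CV) F (isSheaf_zariski_of_isHSheafOver h1)
    (fun Y Y' f hf => isSheafFor_singleton_of_CV h1 h2 Y Y' f hf) X _ ?_
  refine ⟨X.left.affineOpens, fun U => U.1, fun U => U.2, iSup_affineOpens_eq_top _, fun U => ?_⟩
  obtain ⟨Fc, hFc, hFR⟩ := hE U
  haveI := hFc.finite_index
  haveI := hFc.isAffine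
  haveI : ∀ j, IsAffine (Fc.X j) := hFc.isAffine_obj
  refine ⟨ULift.{u} Fc.I₀, inferInstance,
    fun j => Over.mk (Fc.f j.down ≫ U.1.ι ≫ X.hom),
    fun j => Over.homMk (Fc.f j.down ≫ U.1.ι) (by simp),
    fun j => Fc.f j.down, fun j => hFc.isAffine_obj j.down, fun j => ?_, fun j => rfl, ?_, ?_⟩
  · obtain ⟨i, h, hh⟩ := hFR j.down
    have hmem : (R.map (Over.forget S)) (E.f i) := by
      rw [heq]
      exact ⟨i⟩
    have key : ∀ {A : Scheme.{u}} (q : A ⟶ X.left), (R.map (Over.forget S)) q →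
        ∀ (h : Fc.X j.down ⟶ A), h ≫ q = Fc.f j.down ≫ U.1.ι →
        (Sieve.generate R).arrows (Over.homMk (Fc.f j.down ≫ U.1.ι) (by simp) :
          Over.mk (Fc.f j.down ≫ U.1.ι ≫ X.hom) ⟶ X) := by
      intro A q hq h hh
      obtain ⟨hg⟩ := hq
      rename_i Z g
      obtain ⟨h', rfl⟩ : ∃ h' : Fc.X j.down ⟶ Z.left, h' = h := ⟨h, rfl⟩
      have hh' : h' ≫ g.left = Fc.f j.down ≫ U.1.ι := hh
      refine ⟨Z, Over.homMk h' ?_, g, hg, ?_⟩
      · change h' ≫ Z.hom = Fc.f j.down ≫ U.1.ι ≫ X.hom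
        rw [← Over.w g, reassoc_of% hh']
      · ext
        exact hh'
    exact key (E.f i) hmem h hh
  · haveI : IsAffine (U.1 : Scheme.{u}) := U.2
    haveI : ∀ b : ULift.{u} Fc.I₀, IsAffine (((fun j : ULift.{u} Fc.I₀ =>
        Over.mk (Fc.f j.down ≫ U.1.ι ≫ X.hom)) b).left) := fun b => hFc.isAffine_obj b.down
    exact isAffineHom_of_isAffine _
  · intro V _ _ g
    obtain ⟨W, hd, hvr, φ, hφ, j, g', hg'⟩ := hFc.lift V g
    refine ⟨W, hd, hvr, φ, hφ,
      g' ≫ Sigma.ι (fun j : ULift.{u} Fc.I₀ => Fc.X j.down) ⟨j⟩, ?_⟩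
    rw [Category.assoc, Sigma.ι_desc]
    exact hg'

end

end Groth.Agent.H5.Vh
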